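import Cfsg.Agent.OnT.J
import Cfsg.Agent.Perm.HkZ
import Cfsg.Agent.Coprime.Misc

/-! O'Nan's theorem on normal `TI`-subgroups: the rank one case. -/

set_option autoImplicit false
set_option linter.unusedSectionVars false

namespace CF.OnT
open MulAction Subgroup Cfsg CF.BG CF.Bender CF.ZD CF.Tw
open CF.Hk (St Pt)
open scoped commutatorElement MatrixGroups

universe u v
variable {G : Type u} {Ω : Type v} [Group G] [Finite G] [MulAction G Ω] [Finite Ω] [FaithfulSMul G Ω]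
variable {N : Ω → Subgroup G} {A B H M X : Subgroup G} {Φ : Set Ω} {a a' b c d p q w w' : Ω}
  {e g h h' j k l m s t u x y z : G} {r : ℕ}

/-- elements of `A` with a third fixed point -/
structure Fh (N : Ω → Subgroup G) (a b c : Ω) (h : G) : Prop where
  mem : h ∈ AA N a b
  ne : h ≠ 1
  ca : c ≠ a
  cb : c ≠ b
  fix : h • c = c

namespace Ln
variable (F : Ln N r) (n : a ≠ b)
include F n

theorem rtr (n' : a ≠ w) : ∃ m ∈ MM N a, m • b = w := by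
  obtain ⟨m, hm, e⟩ := F.ltr n n'
  exact ⟨m, hm, (F.two_pt n' e).resolve_left fun k => n (MulAction.injective m ((F.fxM hm).trans k.symm))⟩

theorem nKL : KK N b a ≤ 𝐍 (KK N a b) := fun _ hl => F.nmK hl.2 (F.fx hl.1)

theorem dA (hx : x ∈ AA N a b) : ∃ k ∈ KK N a b, ∃ l ∈ KK N b a, k * l = x :=
  (mem_sup_norm' (F.nKL n)).1 (AA_le.2 (fun w hw y hy h => by
    rcases F.two_pt n hw with rfl | rfl
    exacts [mem_sup_left ⟨hy, h b F.lb⟩, mem_sup_right ⟨hy, h a F.la⟩]) hx)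

theorem KA1 : KK N a b ≤ AA N a b := F.KA n F.la F.lb n

theorem KA2 : KK N b a ≤ AA N a b := F.KA n F.lb F.la n.symm

theorem fix3 (hk : k ∈ KK N a b) (ca : c ≠ a) (cb : c ≠ b) (e : k • c = c) : k = 1 := by_contra fun k1 =>
  (F.two_pt n ((F.memL n hk k1).2 e)).elim ca cb

theorem uqA (hk : k ∈ KK N a b) (hl : l ∈ KK N b a) (hx : x ∈ KK N a b) (hy : y ∈ KK N b a) (e : k * l = x * y) :
    k = x ∧ l = y := by
  have : x⁻¹ * k = y * l⁻¹ := by rw [inv_mul_eq_iff_eq_mul, ← mul_assoc, ← e, mul_inv_cancel_right]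
  have h1 := F.ti n (mul_mem (inv_mem hx) hk).1 (this ▸ (mul_mem hy (inv_mem hl)).1)
  exact ⟨(inv_mul_eq_one.1 h1).symm, (mul_inv_eq_one.1 (this ▸ h1)).symm⟩

theorem DSt (hd : g ∈ D2 G a b) : g ∈ St G (ln N a b) :=
  F.St_of n F.la F.lb n (hd.1.symm ▸ F.la) (hd.2.symm ▸ F.lb)

theorem comm_fx (hh : h ∈ D2 G a b) (hm : m ∈ MM N a) : m * h = h * m ↔ h • m • b = m • b := by
  refine ⟨fun c => comm_smul c hh.2, fun e => ?_⟩
  have := F.smM (mul_mem (inv_mem hm) (conj_mem_of_norm (F.nmM hh.1) hm)) n.symm (by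
    rw [mul_smul, mul_smul, mul_smul, inv_smul_eq_iff.2 (Eq.symm hh.2), e, inv_smul_smul])
  exact (mul_inv_eq_iff_eq_mul.1 (inv_mul_eq_one.1 this).symm).symm

theorem AD (hx : x ∈ AA N a b) : x ∈ D2 G a b := ⟨APt hx a F.la, APt hx b F.lb⟩

theorem fh (hh : h ∈ AA N a b) (h1 : h ≠ 1) (hm : m ∈ MM N a) (m1 : m ≠ 1) (c : m * h = h * m) : Fh N a b (m • b) h :=
  ⟨hh, h1, fun e => n (MulAction.injective m ((F.fxM hm).trans e.symm)), fun e => m1 (F.smM hm n.symm e),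
    (F.comm_fx n (F.AD n hh) hm).1 c⟩

theorem hy (f : Fh N a b c h) : Hy N r a b (zpowers h) := by
  obtain ⟨k, hk, l, hl, rfl⟩ := F.dA n f.mem
  obtain ⟨x, hx, x1⟩ := F.exK n
  obtain ⟨m, hm, rfl⟩ := F.rtr n f.ca.symm
  have nA := (F.abA n).le_norm (zpowers_le.2 f.mem)
  refine ⟨F, n, zpowers_le.2 f.mem, (cyc_qt_iff nA).2 ⟨x, F.KA1 n hx, fun y hy => ?_⟩, ne_bot_of_mem
    ⟨hm, (cent_zpowers _).ge (mem_cent1.2 ((F.comm_fx n (F.AD n f.mem) hm).2 f.fix))⟩ fun e => f.cb (by rw [e, one_smul])⟩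
  obtain ⟨k', hk', l', hl', rfl⟩ := F.dA n hy
  rw [F.gen n hx x1]
  refine mul_mem (mem_sup_right hk') ((?_ : KK N b a ≤ _) hl')
  rw [← F.gen n.symm hl fun e => f.ne (by rw [e, mul_one]; exact F.fix3 n hk f.ca f.cb (by simpa [e] using f.fix)),
    zpowers_le]
  simpa using mul_mem (inv_mem (mem_sup_right hk)) (mem_sup_left (mem_zpowers (k * l)) : _ ∈ _ ⊔ KK N a b)

theorem same (f : Fh N a b c h) (hx : x ∈ AA N a b) (e : x • c = c) : x ∈ zpowers h := by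
  obtain ⟨k, hk, k1⟩ := F.exK n
  have Y := F.hy n f
  obtain ⟨y, hy, z, hz, rfl⟩ := Y.dec (F.KA1 n hk) (Y.nH F.la hk.1 (APt (F.KA1 n hk)) k1) hx
  rw [mul_smul, smul_eq_iff_eq_inv_smul, zpowers_le.2 (mem_stabilizer_iff.2 f.fix) (inv_mem hy)] at e
  rwa [F.fix3 n (zpowers_le.2 hk hz) f.ca f.cb e, mul_one]

theorem nil : Nil (MM N a) := (F.reg n).nil (inf_le_right.trans F.nmM) (F.Kne n.symm) ((F.so a).mono (der_le _))

theorem tt2 (f : Fh N a b c h) : TT (𝐂 (zpowers h)) (Fx Ω (zpowers h)) :=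
  ⟨fun _ hg _ => (F.hy n f).inv hg, fun p hp q hq c hc d hd n1 n2 => by
    obtain ⟨g, hg, e1, e2⟩ := (F.hy n f).flag hp hq n1 hc hd n2
    exact ⟨g, hg, e1, (F.two_pt n2 e2).resolve_left fun e => n1 (MulAction.injective g (e1.trans e.symm))⟩⟩

theorem inv_even (ev : ¬ Odd (♯(MM N a))) : ∃ c h, Fh N a b c h ∧ D2 G a b ≤ 𝐍 (zpowers h :) := by
  have nil := F.nil n
  have nZ : stabilizer G a ≤ 𝐍 (𝐙 (MM N a)) := F.nmM.trans (norm_center _)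
  have aD : AA N a b ≤ stabilizer G a := fun _ hx => (F.AD n hx).1
  obtain ⟨h, hh, h1, k⟩ := (F.abA n).exists_cent1_ne_bot (K := 𝐎 {2} (MM N a) ⊓ 𝐙 (MM N a)) (fun c => by
      obtain ⟨k, hk, k1⟩ := F.exK n
      obtain ⟨l, hl, l1⟩ := F.exK n.symm
      obtain ⟨x, e⟩ := c.exists_gen
      have h1 := F.powA n x (e ▸ mem_zpowers x)
      exact l1 (F.ti n (zpowers_le.2 hk.1 ((zp_eq F.pr h1 (e ▸ F.KA1 n hk) k1).ge (e ▸ F.KA2 n hl))) hl.1))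
    (aD.trans (norm_inf (le_norm_O _ F.nmM) nZ)) (coprime_mono (F.copA n) le_rfl (inf_le_left.trans (O_le _ _)))
    (nil.inf_center_ne_bot (O_normal _ _) ((nil.hall_O {2}).syl_ne_bot p2
      (even_iff_two_dvd.1 (Nat.not_odd_iff_even.1 ev))))
  obtain ⟨s, hs, is⟩ := exists_iv_of_pi (O_pi _ _).inf_left.inf_left k
  have sZ : s ∈ 𝐙 (MM N a) := hs.1.2
  have f := F.fh n hh h1 sZ.1 is.ne (mem_cent1.1 hs.2)
  refine ⟨_, h, f, fun g hg => mem_norm_of_cj_le ?_⟩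
  rw [cj_zpowers, zpowers_le]
  let D : Set G := {d | Iv d ∧ ∃ g : G, g * d * g⁻¹ ∈ 𝐙 (MM N a)}
  have sr : ∀ z ∈ 𝐙 (MM N a), z ≠ 1 → ∀ q : Ω, z • q = q → q = a := fun z hz z1 q f => by_contra fun e =>
    z1 (F.smM hz.1 e f)
  have zz : ∀ d ∈ D, d • a = a → d ∈ 𝐙 (MM N a) := fun d ⟨i, g, hg⟩ f => by
    simpa [mul_assoc] using conj_mem_of_norm' (nZ (sr _ hg (i.conj g).ne _ (conj_smul f g))) hg
  have W : WZ Ω D := WZ.of_pt (F.tr1 a)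
    (fun ⟨i, g, hg⟩ k => ⟨i.conj k, g * k⁻¹, by simpa [mul_assoc] using hg⟩) (fun h => h.1)
    (fun ⟨_, g, hg⟩ => ⟨g⁻¹ • a, by rw [eq_inv_smul_iff, ← mul_smul, ← mul_smul]; exact F.fxM hg.1⟩)
    (fun h f => sr _ (zz _ h f) h.1.ne)
    fun h k f1 f2 n _ => sr _ (mul_mem (zz _ h f1) (zz _ k f2)) fun e => n (by
      rw [eq_inv_of_mul_eq_one_left e, k.1.inv])
  have da : ∀ z ∈ 𝐙 (MM N a), Iv z → DA D a z := fun z hz i => ⟨⟨i, 1, by simpa using hz⟩, F.fxM hz.1⟩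
  have hA := conj_mem_of_norm (F.StA n (F.DSt n hg)) hh
  have sZ' := conj_mem_of_norm (nZ hg.1) sZ
  have c' := cj_comm_iff (g := g).2 (mem_cent1.1 hs.2)
  have f' := F.fh n hA (by simpa using h1) sZ'.1 (is.conj g).ne c'
  by_cases e : g * s * g⁻¹ = s
  · exact F.same n f hA (e ▸ f'.fix)
  obtain ⟨j, j1⟩ := F.tr1 a b
  obtain ⟨w, -, jw, -⟩ := W.exists_swap (M := ⊤) (da s sZ is) (j1 ▸ W.da_conj (da s sZ is) j) n trivial trivial
  have cm := mem_cent.1 sZ.2 _ sZ'.1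
  obtain ⟨x, hx, -, e1⟩ := W.K_trans (M := ⊤) jw (da s sZ is) (da _ (mul_mem sZ sZ') ⟨fun k => e (by
    rw [eq_inv_of_mul_eq_one_right k, is.inv]), by
      rw [mul_assoc, ← mul_assoc (g * s * g⁻¹), cm, mul_assoc s, (is.conj g).sq, mul_one, is.sq]⟩) trivial trivial trivial
  have xA := conj_mem_of_norm' (F.StA n (F.DSt n (KK_sub hx).1)) hh
  have c2 : x⁻¹ * h * x * (s * (g * s * g⁻¹)) = s * (g * s * g⁻¹) * (x⁻¹ * h * x) := by
    rw [← e1]; simpa using cj_comm_iff (g := x⁻¹).2 (mem_cent1.1 hs.2).symm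
  have x1 : x⁻¹ * h * x ≠ 1 := fun k => h1 (by simpa [mul_assoc] using congrArg (fun y => x * y * x⁻¹) k)
  have s1 := (is.conj g).ne
  generalize x⁻¹ * h * x = y at *
  generalize g * s * g⁻¹ = s' at *
  generalize g * h * g⁻¹ = h' at *
  have ab := F.abA n
  have e2 : s⁻¹ * (y * s * y⁻¹) = s' * (y * s' * y⁻¹)⁻¹ := by
    rw [inv_mul_eq_iff_eq_mul, ← mul_assoc, ← mul_inv_eq_iff_eq_mul.2 c2]; group
  have m1 := mul_mem ((MM N a).inv_mem sZ.1) (conj_mem_of_norm (F.nmM (aD xA)) sZ.1)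
  have k1 : ∀ {s h : G}, s * h = h * s → h ∈ AA N a b → y * s * y⁻¹ ∈ 𝐂₁ h := fun c hh =>
    mul_mem (mul_mem (mem_cent1.2 (ab.mul_comm xA hh)) (mem_cent1.2 c)) (inv_mem (mem_cent1.2 (ab.mul_comm xA hh)))
  by_cases y1 : s⁻¹ * (y * s * y⁻¹) = 1
  · have h2 := F.same n f xA ((F.comm_fx n (F.AD n xA) sZ.1).1 (mul_inv_eq_iff_eq_mul.1 (inv_mul_eq_one.1 y1).symm).symm)
    exact zpowers_le.2 h2 (F.same n (F.fh n xA x1 sZ'.1 s1 (mul_inv_eq_iff_eq_mul.1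
      (mul_inv_eq_one.1 (e2 ▸ y1)).symm).symm) hA f'.fix)
  · exact F.same n (F.fh n hh h1 m1 y1 (mem_cent1.1 (mul_mem ((𝐂₁ h).inv_mem hs.2) (k1 (mem_cent1.1 hs.2) hh)))) hA
      ((F.comm_fx n (F.AD n hA) m1).1 (mem_cent1.1 (e2 ▸ mul_mem (mem_cent1.2 c') (inv_mem (k1 c' hA)))))

theorem rs (o : Odd (♯(MM N a))) : Hk.RS (MM N) :=
  ⟨fun g _ _ h => F.conjM h g, F.fxM, fun {c p q} h1 h2 => F.rtr h1.symm h2.symm, fun h n e => F.smM h n e,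
    fun c => let ⟨_, _, k⟩ := F.ex2 n c; F.nil k, fun c => by
      obtain ⟨g, rfl⟩ := F.tr1 a c
      rwa [← F.cjM, card_cj]⟩

theorem inv_tl {E : Type} [Field E] [Fintype E] {pt : E → E → Ω} {π : SL(2, E) →* G} (R : Hk.RS (MM N))
    (T : Hk.TLd (MM N) Φ pt π) (e1 : pt 1 0 = a) (e2 : pt 0 1 = b) (l : D2 G a b ≤ St G Φ) :
    ∃ c h, Fh N a b c h ∧ D2 G a b ≤ 𝐍 (zpowers h :) := by
  subst e1 e2
  obtain ⟨c, hc, ca, cb⟩ := Tw.exists_third T.two_lt (pt 1 0) (pt 0 1)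
  have lin : ∀ K : Subgroup G, (♯K).Prime → K ≤ D2 G (pt 1 0) (pt 0 1) → D2 G (pt 1 0) (pt 0 1) ≤ 𝐍 K → ∀ k ∈ K,
      ∃ s, Hk.Sc pt k s := fun K hK l1 l2 k hk => by
    obtain ⟨s, σ, h⟩ := T.rep_D R (l (l1 hk)) (l1 hk)
    have k1 : ∀ x : E, x ≠ 0 → σ x ^ 2 = x ^ 2 := fun x x0 => by
      have s0 : σ x ≠ 0 := (map_ne_zero σ).2 x0
      have e : k * π (Hk.hT x) * k⁻¹ * (π (Hk.hT x))⁻¹ = π (Hk.hT (σ x * x⁻¹)) := by
        rw [T.conj_hT R h x0, mul_inv_cancel_right, ← map_inv, ← map_mul, Hk.hT_inv x0, Hk.hT_mul s0 (inv_ne_zero x0)]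
      have y0 := mul_ne_zero s0 (inv_ne_zero x0)
      have m : π (Hk.hT (σ x * x⁻¹)) ∈ K := e ▸ by
        simpa [mul_assoc] using mul_mem hk (conj_mem_of_norm (l2 (T.hT_D x0)) (inv_mem hk))
      have o : π (Hk.hT (σ x * x⁻¹)) = 1 := by_contra fun k1 => k1 (by
        have : K ≤ 𝐂₁ (π (Hk.hT x)) := zpowers_eq_of_prime hK m k1 ▸ zpowers_le.2 (mem_cent1.2 (by
          rw [← map_mul, ← map_mul, Hk.hT_mul y0 x0, Hk.hT_mul x0 y0, mul_comm]))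
        rw [← e, mem_cent1.1 (this hk)]; group)
      have := (T.sc_one (T.sc_hT y0)).1 (o ▸ one_mem _)
      field_simp at this
      exact this
    obtain rfl : σ = Hk.ι₀ := RingEquiv.ext fun x => by
      by_cases x0 : x = 0
      · simp [x0]
      by_cases x1 : x + 1 = 0
      · simp [eq_neg_of_add_eq_zero_left x1]
      have h1 := k1 x x0
      have h2 := k1 _ x1
      rw [map_add, map_one] at h2
      exact mul_left_cancel₀ T.two (by simp only [RingEquiv.refl_apply]; linear_combination h2 - h1)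
    exact ⟨s, h⟩
  obtain ⟨k, hk, k1⟩ := F.exK n
  obtain ⟨l', hl, l1⟩ := F.exK n.symm
  obtain ⟨x, hx⟩ := lin _ (F.Kp n) (fun _ h => F.AD n (F.KA1 n h)) (fun _ h => F.nmK h.1 h.2) k hk
  obtain ⟨y, hy⟩ := lin _ (F.Kp n.symm) (fun _ h => F.AD n (F.KA2 n h)) (fun _ h => F.nmK h.2 h.1) l' hl
  have x1 : x ^ r = 1 := (T.sc_one (hx.pow r)).1 (F.pow n hk ▸ one_mem _)
  have y1 : y ^ r = 1 := (T.sc_one (hy.pow r)).1 (F.pow n.symm hl ▸ one_mem _)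
  have : Fact r.Prime := ⟨F.pr⟩
  have p : IsPrimitiveRoot x r := orderOf_eq_prime x1 (fun e => k1 (F.fix3 n hk ca cb ((T.sc_one hx).2 e c hc))) ▸
    IsPrimitiveRoot.orderOf x
  obtain ⟨i, -, e⟩ := p.eq_pow_of_pow_eq_one y1
  have f : Fh N (pt 1 0) (pt 0 1) c ((k ^ i)⁻¹ * l') := ⟨mul_mem (inv_mem (pow_mem (F.KA1 n hk) i)) (F.KA2 n hl),
    fun e => l1 (F.ti n (inv_mul_eq_one.1 e ▸ pow_mem hk.1 i) hl.1), ca, cb,
    T.pt_of (hx.pow i) (e ▸ hy) c hc⟩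
  refine ⟨c, _, f, fun g hg => mem_norm_of_cj_le ?_⟩
  rw [cj_zpowers, zpowers_le]
  exact F.same n f (conj_mem_of_norm (F.StA n (F.DSt n hg)) f.mem) (Hk.Pt.conj (T.pt_of (hx.pow i) (e ▸ hy)) (l hg) c hc)

theorem inv0 : ∃ c h, Fh N a b c h ∧ D2 G a b ≤ 𝐍 (zpowers h :) := by
  by_cases o : Odd (♯(MM N a))
  swap
  · exact F.inv_even n o
  have R := F.rs n o
  obtain ⟨m, hm, m1⟩ := exists_mem_ne_one (F.ne a)
  have st : ∀ {g}, g ∈ St G (Set.univ : Set Ω) := Hk.St_univ.ge (mem_top _)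
  have k : ∀ t : G, (∀ y ∈ Hk.LL (MM N) Set.univ, y ∈ D2 G a b → Iv y → y = t) → t ∈ Hk.LL (MM N) Set.univ →
      t ∈ D2 G a b → Iv t → D2 G a b ≤ St G (Set.univ ∩ Hk.FE Ω t) := fun t u h1 h2 i g hg => by
    rw [Set.univ_inter]
    exact Hk.cent_St (mul_inv_eq_iff_eq_mul.1 (u _ (R.LL_conj st h1) (mul_mem (mul_mem hg h2) (inv_mem hg)) (i.conj g)))
  rcases Hk.main G Ω _ R _ Hk.cl_univ (two_lt_ncard (Δ := (Set.univ : Set Ω)) (Set.mem_univ a) (Set.mem_univ b)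
    (Set.mem_univ (m • b)) n
    (fun e => n (MulAction.injective m ((F.fxM hm).trans e.symm))) fun e => m1 (F.smM hm n.symm e)) with T | T | T | T
  · obtain ⟨E, _, _, pt, π, T, e1, e2⟩ := T.at R trivial trivial n
    exact F.inv_tl n R T e1 e2 fun _ _ => st
  · obtain ⟨E, T⟩ := T
    exact (F.nreg ⟨E, normalIn_top.1 ⟨le_top, fun _ _ => T.nm st⟩, fun x y => T.tr x trivial y trivial,
      fun x e he => T.semi e he x trivial⟩).elim
  · obtain ⟨E, _, _, pt, π, T, e1, e2⟩ := T.at R trivial trivial n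
    exact F.inv_tl n R T.T e1 e2 (k _ (e1 ▸ e2 ▸ T.uq) (R.LL_mono Hk.cl_univ (Set.subset_univ _) T.T.ma T.T.mb T.T.ab
      (T.T.mem_L R _)) ⟨e1 ▸ T.T.ma.2, e2 ▸ T.T.mb.2⟩ ⟨T.z1, T.T.z_sq⟩)
  · obtain ⟨E, _, _, s, pt, π, T, e1, e2⟩ := T.at R trivial trivial n
    exact F.inv_tl n R T.T e1 e2 (k _ (e1 ▸ e2 ▸ T.uq) T.mem ⟨e1 ▸ T.T.ma.2, e2 ▸ T.T.mb.2⟩ T.iv)

theorem fisher2 (f : Fh N a b c h) (i : D2 G a b ≤ 𝐍 (zpowers h :)) :
    (♯(MM N a ⊓ 𝐂₁ h :) + 1) * ♯(MM N a ⊓ 𝐂₁ h :) ≤ ♯(MM N a) := by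
  have Y := F.hy n f
  have tt := F.tt2 n f
  have ha := Y.sub Y.la
  have hb := Y.sub Y.lb
  have blk : ∀ g : G, ∀ p ∈ Fx Ω (zpowers h), ∀ q ∈ Fx Ω (zpowers h), p ≠ q → g • p ∈ Fx Ω (zpowers h) →
      g • q ∈ Fx Ω (zpowers h) → g ∈ 𝐍 (zpowers h :) := fun g p hp q hq n' h1 h2 => by
    obtain ⟨x, hx, rfl, rfl⟩ := tt.tt a ha b hb p hp q hq n n'
    obtain ⟨y, hy, y1, y2⟩ := tt.tt _ h1 _ h2 a ha b hb (fun e => n' (MulAction.injective g e)) n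
    have := i (mem_D2.2 ⟨show (y * g * x) • a = a by rwa [mul_smul, mul_smul],
      show (y * g * x) • b = b by rwa [mul_smul, mul_smul]⟩)
    rwa [Subgroup.mul_mem_cancel_right _ (cent_le_norm _ hx), Subgroup.mul_mem_cancel_left _ (cent_le_norm _ hy)] at this
  obtain ⟨y, hy⟩ : ∃ y : Ω, h • y ≠ y := by_contra fun k => f.ne (eq_one_of_fix fun y => by_contra fun e => k ⟨y, e⟩)
  obtain ⟨g, hg⟩ := F.tr1 y a
  choose! m h1 h2 using fun p (hp : p ∈ Fx Ω (zpowers h)) => F.rtr n (w := g • p) fun e =>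
    hy (fx_zp.1 (MulAction.injective g (hg.trans e) ▸ hp))
  have c := Y.count ha
  rw [show (ln N a b).ncard = 2 from Set.ncard_eq_two.2 ⟨a, b, n, Set.ext fun _ => ⟨F.two_pt n, by
    rintro (rfl | rfl); exacts [F.la, F.lb]⟩⟩, Nat.add_one_sub_one, mul_one, cent_zpowers] at c
  rw [← c, ← ncard_coe, ← Set.ncard_prod, ← ncard_coe]
  refine Set.ncard_le_ncard_of_injOn (fun x => m x.1 * x.2) (fun x hx => mul_mem (h1 _ hx.1) hx.2.1)
    (fun x hx z hz e => ?_) (Set.toFinite _)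
  replace e : m x.1 * x.2 = m z.1 * z.2 := e
  have : x.1 = z.1 := by_contra fun n' => hy (fx_zp.1 (by
    have h3 := blk ((m z.1)⁻¹ * g) _ hx.1 _ hz.1 n' (by
      rw [mul_smul, ← h2 _ hx.1, ← mul_smul, show (m z.1)⁻¹ * m x.1 = z.2 * x.2⁻¹ by
        rw [inv_mul_eq_iff_eq_mul, ← mul_assoc, ← e, mul_inv_cancel_right]]
      exact Y.inv ((cent_zpowers h).ge (mul_mem hz.2.2 (inv_mem hx.2.2))) hb) (by
      rw [mul_smul, ← h2 _ hz.1, inv_smul_smul]; exact hb)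
    have := fx_inv (inv_mem h3) ha
    rwa [mul_inv_rev, inv_inv, mul_smul, F.fxM (h1 _ hz.1), ← hg, inv_smul_smul] at this))
  rw [this] at e
  exact Prod.ext this (mul_left_cancel e)

theorem two_hyp (hk : k ∈ KK N a b) (hl : l ∈ KK N b a) (f : Fh N a b c (k * l))
    (i : D2 G a b ≤ 𝐍 (zpowers (k * l) :)) (f' : Fh N a b d h) : h ∈ zpowers (k * l) ∨ h ∈ zpowers (k * l⁻¹) := by
  have Y := F.hy n f'
  obtain ⟨j, hj, j1, j2⟩ := (F.tt2 n f').tt a (Y.sub Y.la) b (Y.sub Y.lb) b (Y.sub Y.lb) a (Y.sub Y.la) n n.symm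
  obtain ⟨i', hi, i1, i2⟩ := (F.tt2 n f).tt a ((F.hy n f).sub Y.la) b ((F.hy n f).sub Y.lb) b ((F.hy n f).sub Y.lb) a
    ((F.hy n f).sub Y.la) n n.symm
  have jS : j ∈ St G (ln N a b) := F.St_of n F.la F.lb n (j1 ▸ F.lb) (j2 ▸ F.la)
  have h1 := Y.invH ⟨hj, jS⟩ (j1 ▸ n.symm) (by rw [j1, j2]) f.mem
  have h2 : j ∈ 𝐍 (zpowers (k * l) :) := (Subgroup.mul_mem_cancel_right _ (cent_le_norm _ hi)).1
    (i ⟨show (j * i') • a = a by rw [mul_smul, i1, j2], show (j * i') • b = b by rw [mul_smul, i2, j1]⟩)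
  have h3 := mul_mem (conj_mem_of_norm h2 (mem_zpowers _)) (mem_zpowers (k * l))
  by_cases e : j * (k * l) * j⁻¹ * (k * l) = 1
  · right
    have c1 := F.conjK hk j
    have c2 := F.conjK hl j
    rw [j1, j2] at c1 c2
    have c := F.comm n hk hl
    obtain ⟨e1, e2⟩ := F.uqA n c2 c1 (inv_mem hk) (inv_mem hl) (by
      rw [F.comm n c2 c1, conj_mul, eq_inv_of_mul_eq_one_left e, c, mul_inv_rev])
    obtain ⟨k', hk', l', hl', rfl⟩ := F.dA n f'.mem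
    have c3 := F.conjK hk' j
    have c4 := F.conjK hl' j
    rw [j1, j2] at c3 c4
    obtain ⟨-, e4⟩ := F.uqA n c4 c3 hk' hl' (by
      rw [F.comm n c4 c3, conj_mul, cj_of_comm (mem_cent.1 hj _ (mem_zpowers _)).symm])
    obtain ⟨t, rfl⟩ := mem_zpowers_iff.1 ((F.gen n hk fun e => f.ne (by
      rw [e, mul_one, mul_inv_cancel, eq_comm, inv_eq_one] at e2; rw [e, e2, mul_one])).ge hk')
    exact mem_zpowers_iff.2 ⟨t, by rw [← e4, ← conj_zpow, e2, (Commute.inv_right c).mul_zpow]⟩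
  · exact .inl ((zp_eq F.pr (F.powA n _ f.mem) h3 e).le ((zp_eq F.pr (F.powA n _ f'.mem) h1 e).ge (mem_zpowers h)))

theorem false : False := by
  classical
  obtain ⟨c, h, f, i⟩ := F.inv0 n
  obtain ⟨k, hk, l, hl, rfl⟩ := F.dA n f.mem
  have cm := F.comm n hk hl
  have lA := mul_mem (F.KA1 n hk) (inv_mem (F.KA2 n hl))
  have i' : D2 G a b ≤ 𝐍 (zpowers (k * l⁻¹) :) := fun g hg => mem_norm_of_cj_le (by
    obtain ⟨t, e⟩ := mem_zpowers_iff.1 (conj_mem_of_norm (i hg) (mem_zpowers _))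
    obtain ⟨e1, e2⟩ := F.uqA n (zpow_mem hk t) (zpow_mem hl t) (conj_mem_of_norm (F.nmK hg.1 hg.2) hk)
      (conj_mem_of_norm (F.nmK hg.2 hg.1) hl) (by rw [conj_mul, ← e, Commute.mul_zpow cm])
    rw [cj_zpowers, zpowers_le, ← conj_mul, ← conj_inv, ← e1, ← e2, ← inv_zpow, ← (Commute.inv_right cm).mul_zpow]
    exact zpow_mem (mem_zpowers _) t)
  have ex : ∀ x ∈ AA N a b, x ≠ 1 → ♯(MM N a ⊓ 𝐂₁ x :) ≠ 1 → ∃ d, Fh N a b d x := fun x hx x1 e => by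
    obtain ⟨m, hm, m1⟩ := exists_mem_ne_one fun k => e (card_eq_one'.2 k)
    exact ⟨_, F.fh n hx x1 hm.1 m1 (mem_cent1.1 hm.2)⟩
  have h2 : ∀ x ∈ AA N a b, x ≠ 1 → ♯(MM N a ⊓ 𝐂₁ x :) ≠ 1 → ♯(MM N a ⊓ 𝐂₁ x :) ^ 2 ≤ ♯(MM N a) - 1 := fun x hx x1 e => by
    obtain ⟨d, f'⟩ := ex x hx x1 e
    have := F.fisher2 n f' ((F.two_hyp n hk hl f i f').elim (fun e => zp_eq F.pr (F.powA n _ f.mem) e x1 ▸ i)
      fun e => zp_eq F.pr (F.powA n _ lA) e x1 ▸ i')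
    have : 0 < ♯(MM N a ⊓ 𝐂₁ x :) := Nat.card_pos
    exact Nat.le_sub_one_of_lt (by nlinarith)
  have : Fact r.Prime := ⟨F.pr⟩
  have := Fintype.ofFinite (AA N a b)
  have cA : ♯(AA N a b) = r ^ (1 + 1) := by
    rw [show AA N a b = KK N a b ⊔ KK N b a from le_antisymm (fun x hx => let ⟨_, h1, _, h2, e⟩ := F.dA n hx
      e ▸ mul_mem (mem_sup_left h1) (mem_sup_right h2)) (sup_le (F.KA1 n) (F.KA2 n)),
      card_sup_of_inf_bot (.inr (F.nKL n)) (eq_bot_of_forall fun x h => F.ti n h.1.1 h.2.1), F.cK n, F.cK n.symm, ← sq]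
  have P := Coprime.prod_card_inf_centralizer_elem _ _ (Abelem.mk' F.pr (F.abA n) (F.powA n)).isEA cA (F.nmA n) (F.copA n)
  rw [le_bot_iff.1 ((inf_le_inf_left _ (cent_anti (F.KA2 n))).trans ((F.reg n).cent le_rfl (F.Kne n.symm)).le),
    card_bot, one_pow, mul_one, pow_one, ← Finset.mul_prod_erase _ _ (Finset.mem_univ 1),
    ← Finset.prod_filter_ne_one] at P
  set S := (Finset.univ.erase (1 : AA N a b)).filter fun x : AA N a b => ♯(MM N a ⊓ 𝐂₁ (x : G) :) ≠ 1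
  have hS : ∀ x ∈ S, (x : G) ≠ 1 ∧ ♯(MM N a ⊓ 𝐂₁ (x : G) :) ≠ 1 := fun x hx =>
    ⟨fun e => (Finset.mem_erase.1 (Finset.mem_filter.1 hx).1).1 (Subtype.ext e), (Finset.mem_filter.1 hx).2⟩
  have h3 := Finset.prod_le_pow_card S (fun x => ♯(MM N a ⊓ 𝐂₁ (x : G) :) ^ 2) _ fun x hx =>
    h2 x x.2 (hS x hx).1 (hS x hx).2
  have cz : ∀ x ∈ AA N a b, ((zpowers x : Set G) \ {1}).ncard ≤ r - 1 := fun x hx => by
    rw [Set.ncard_diff_singleton_of_mem (one_mem (zpowers x)), ncard_coe, Nat.card_zpowers]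
    exact Nat.sub_le_sub_right (orderOf_le_of_pow_eq_one F.pr.pos (F.powA n x hx)) 1
  have h4 : S.card ≤ (r - 1) * 2 := by
    rw [← Set.ncard_coe_finset]
    refine (Set.ncard_le_ncard_of_injOn (t := (zpowers (k * l) : Set G) \ {1} ∪ (zpowers (k * l⁻¹) : Set G) \ {1})
      Subtype.val (fun x hx => ?_) Subtype.val_injective.injOn (Set.toFinite _)).trans ((Set.ncard_union_le _ _).trans
        (by have := cz _ f.mem; have := cz _ lA; omega))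
    obtain ⟨d, f'⟩ := ex x x.2 (hS x hx).1 (hS x hx).2
    exact (F.two_hyp n hk hl f i f').imp (⟨·, f'.ne⟩) (⟨·, f'.ne⟩)
  have h5 : 1 < ♯(MM N a) := one_lt_card_iff_ne_bot _ |>.2 (F.ne a)
  have h6 := F.pr.one_lt
  obtain ⟨r, rfl⟩ : ∃ s, r = s + 1 := ⟨r - 1, by omega⟩
  rw [Finset.prod_pow] at h3
  rw [OneMemClass.coe_one, inf_of_le_left (fun x _ => mem_cent1.2 (by simp) : MM N a ≤ 𝐂₁ (1 : G)), pow_succ'] at P
  rw [Nat.eq_of_mul_eq_mul_left (by omega) P, ← pow_mul] at h3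
  exact (h3.trans (Nat.pow_le_pow_right (by omega) h4)).not_gt (Nat.pow_lt_pow_left (by omega) (by omega))

end Ln

theorem Fm.ab (F : Fm N) (a : Ω) : Abel (N a) := by
  obtain ⟨c, d, n, -⟩ := F.ns
  obtain ⟨c, h⟩ : ∃ a, Abel (N a) := by
    by_cases o : Odd (♯(KK N c d))
    · exact ⟨c, by_contra fun na => let ⟨_, L⟩ := F.ln n o na; L.false n⟩
    · exact F.even n o
  obtain ⟨g, rfl⟩ := F.tr1 c a
  exact F.cjN g c ▸ abel_cj.2 h

end CF.OnT
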